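import Groth.Agent.FinLocFreeSections.Basic
import Groth.Agent.QuasiFlatLib.Basic
import Groth.Agent.QCohBase.CohProps
import Groth.Agent.TensorMod.FinLocFree

/-!
# Coherent modules with free stalks are finite locally free
-/

set_option autoImplicit false
set_option linter.style.haveILetI false

noncomputable section

universe u

open CategoryTheory AlgebraicGeometry TopologicalSpace Groth.Agent.QCohBase

namespace Groth.Agent.StalkFree

variable {X : Scheme.{u}}

theorem isFinLocFree_of_free_stalks [IsLocallyNoetherian X] (F : X.Modules) (hF : Coh.IsCoh F)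
    (h : ∀ x : X, Module.Free (X.presheaf.stalk x) (F.presheaf.stalk x)) : FlatMod.IsFinLocFree F := by
  haveI : F.IsQuasicoherent := hF.1
  have hFP : CohB1.IsFP F := isFinitePresentation_of_affine F fun x => by
    obtain ⟨U, hU, hx, -⟩ := exists_isAffineOpen_mem_and_subset (U := (⊤ : X.Opens)) (x := x) trivial
    haveI : IsNoetherianRing Γ(X, U) := IsLocallyNoetherian.component_noetherian ⟨U, hU⟩
    haveI : Module.Finite Γ(X, U) Γ(F, U) := isFiniteType_toFinite hF hU
    exact ⟨U, hU, hx, Module.finitePresentation_of_finite _ _⟩
  intro x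
  haveI := h x
  exact FlatOverBC.exists_iso_freeMod F hFP x inferInstance

theorem free_stalk_of_isFinLocFree [IsLocallyNoetherian X] (F : X.Modules) (hF : FlatMod.IsFinLocFree F) (x : X) :
    Module.Free (X.presheaf.stalk x) (F.presheaf.stalk x) := by
  haveI := QuasiFlatLib.finite_stalk F (TensorMod.isCoh_of_isFinLocFree hF) x
  haveI := FinLocFreeSections.flat_stalk F hF x
  exact Module.free_of_flat_of_isLocalRing

end Groth.Agent.StalkFree
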